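import Groth.Agent.BddFibLib.Basic

/-!
# Points and residue degrees of finite schemes over a field
-/

universe u

open CategoryTheory Limits AlgebraicGeometry

namespace BddFibLib

open BddFib

variable {K : Type u} [Field K] {T X Y : Scheme.{u}}

/-- A closed point of an affine scheme has surjective evaluation. -/
theorem Γevaluation_surjective [IsAffine T] {x : T} (hx : IsClosed ({x} : Set T)) :
    Function.Surjective (T.Γevaluation x) := by
  have := isClosed_singleton_iff_isClosedImmersion.mp hx
  have h2 : Function.Surjective (T.fromSpecResidueField x).appTop :=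
    (IsClosedImmersion.hasAffineProperty.iff_of_isAffine (f := T.fromSpecResidueField x).mp
      inferInstance).2
  have e : (T.fromSpecResidueField x).appTop ≫ (Scheme.ΓSpecIso (T.residueField x)).hom =
      T.Γevaluation x := by
    rw [Scheme.fromSpecResidueField, Scheme.Hom.comp_appTop, Scheme.fromSpecStalk_appTop]
    simp [Scheme.Γevaluation, Scheme.evaluation, Scheme.residue]
  rw [← e]
  exact (ConcreteCategory.bijective_of_isIso (Scheme.ΓSpecIso (T.residueField x)).hom).surjective.comp h2

variable (p : T ⟶ Spec (CommRingCat.of K))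

/-- The structure map of a residue field of a `K`-scheme. -/
noncomputable def resHom (x : T) : K →+* T.residueField x :=
  ((Scheme.ΓSpecIso (CommRingCat.of K)).inv ≫ p.appTop ≫ T.Γevaluation x).hom

theorem residueDegree_eq (x : T) :
    p.residueDegree x = letI := (resHom p x).toAlgebra; Module.finrank K (T.residueField x) := by
  let i : K →+* (Spec (CommRingCat.of K)).residueField (p x) :=
    ((Scheme.ΓSpecIso (CommRingCat.of K)).inv ≫ (Spec (CommRingCat.of K)).Γevaluation (p x)).hom
  have hi : Function.Bijective i := by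
    refine ⟨i.injective, ?_⟩
    have hx : IsClosed ({p x} : Set (Spec (CommRingCat.of K))) :=
      (Set.subsingleton_of_subsingleton (α := PrimeSpectrum K) (s := {p x})).isClosed
    exact (Γevaluation_surjective hx).comp
      (ConcreteCategory.bijective_of_isIso (Scheme.ΓSpecIso (CommRingCat.of K)).inv).surjective
  letI := (resHom p x).toAlgebra
  letI := (p.residueFieldMap x).hom.toAlgebra
  rw [Scheme.Hom.residueDegree]
  refine (Algebra.finrank_eq_of_equiv_equiv (RingEquiv.ofBijective i hi) (RingEquiv.refl _) ?_).symm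
  refine RingHom.ext fun a => ?_
  change (p.residueFieldMap x).hom (i a) = resHom p x a
  simp only [i, resHom, CommRingCat.hom_comp, RingHom.comp_apply]
  exact Scheme.Γevaluation_naturality_apply (f := p) x _

variable [IsFinite p]

include p in
theorem finite_points : Finite T := by
  have : QuasiCompact p := inferInstance
  have : LocallyQuasiFinite p := inferInstance
  have : CompactSpace T := QuasiCompact.compactSpace_of_compactSpace p
  have : IsLocallyArtinian T := .of_locallyQuasiFinite p
  exact finite_of_compact_of_discrete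

include p in
theorem isClosed_singleton (x : T) : IsClosed ({x} : Set T) := by
  have : IsLocallyArtinian T := .of_locallyQuasiFinite p
  exact isClosed_discrete _

/-- Evaluation at all points, as a `K`-linear map. -/
theorem exists_eval :
    letI := secAlgebra (CommRingCat.of K) p
    letI : ∀ x, Algebra K (T.residueField x) := fun x => (resHom p x).toAlgebra
    ∃ E : (Γ(T, ⊤) : Type u) →ₐ[K] ∀ x : T, (T.residueField x : Type u),
      (∀ s x, E s x = T.Γevaluation x s) ∧ Function.Surjective E := by
  letI := secAlgebra (CommRingCat.of K) p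
  letI : ∀ x, Algebra K (T.residueField x) := fun x => (resHom p x).toAlgebra
  have hT : IsAffine T := isAffine_of_isAffineHom p
  have := finite_points p
  classical
  haveI := Fintype.ofFinite T
  let e : ∀ x : T, (Γ(T, ⊤) : Type u) →ₐ[K] (T.residueField x : Type u) := fun x =>
    { (T.Γevaluation x).hom with commutes' := fun r => rfl }
  refine ⟨Pi.algHom K (fun x : T => (T.residueField x : Type u)) e, fun _ _ => rfl, ?_⟩
  have hsep : ∀ x y : T, x ≠ y → ∃ s : Γ(T, ⊤), T.Γevaluation x s ≠ 0 ∧ T.Γevaluation y s = 0 := by
    intro x y hxy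
    obtain ⟨s, hle, hxs⟩ := (isAffineOpen_top T).exists_basicOpen_le
      (V := ⟨({y} : Set T)ᶜ, (isClosed_singleton p y).isOpen_compl⟩) ⟨x, hxy⟩ trivial
    refine ⟨s, (Scheme.evaluation_ne_zero_iff_mem_basicOpen _ _ _ _).2 hxs, ?_⟩
    by_contra h
    exact hle ((Scheme.evaluation_ne_zero_iff_mem_basicOpen _ _ _ _).1 h) rfl
  choose s hs1 hs2 using hsep
  intro v
  have hlift : ∀ x : T, ∃ a : Γ(T, ⊤), T.Γevaluation x a =
      v x / ∏ y : {y : T // x ≠ y}, T.Γevaluation x (s x y y.2) := fun x =>
    Γevaluation_surjective (isClosed_singleton p x) _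
  choose a ha using hlift
  refine ⟨∑ x, a x * ∏ y : {y : T // x ≠ y}, s x y y.2, funext fun z => ?_⟩
  change T.Γevaluation z _ = _
  rw [map_sum, Finset.sum_eq_single z]
  · rw [map_mul, map_prod, ha, div_mul_cancel₀]
    exact Finset.prod_ne_zero_iff.2 fun y _ => hs1 z y y.2
  · intro x _ hx
    rw [map_mul, map_prod, Finset.prod_eq_zero (Finset.mem_univ ⟨z, hx⟩) (hs2 x z hx), mul_zero]
  · simp

theorem sum_residueDegree_le {n : ℕ} (h : FiniteOfDegLE (CommRingCat.of K) p n) :
    Nat.card T ≤ n ∧ ∑ᶠ x : T, p.residueDegree x ≤ n := by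
  letI := secAlgebra (CommRingCat.of K) p
  letI : ∀ x, Algebra K (T.residueField x) := fun x => (resHom p x).toAlgebra
  haveI : Module.Finite K (Γ(T, ⊤) : Type u) := h.2.1
  obtain ⟨E, hE, hsurj⟩ := exists_eval p
  have := finite_points p
  haveI := Fintype.ofFinite T
  have : ∀ x : T, Module.Finite K (T.residueField x) := fun x =>
    Module.Finite.of_surjective ((LinearMap.proj x).comp E.toLinearMap)
      ((Function.surjective_eval x).comp hsurj)
  have hsum : ∑ x : T, p.residueDegree x ≤ n := by
    refine le_trans ?_ h.2.2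
    simp only [residueDegree_eq p]
    rw [← Module.finrank_pi_fintype K]
    exact LinearMap.finrank_le_finrank_of_surjective (f := E.toLinearMap) hsurj
  refine ⟨le_trans ?_ hsum, by rwa [finsum_eq_sum_of_fintype]⟩
  rw [Nat.card_eq_fintype_card]
  calc Fintype.card T = ∑ _x : T, 1 := by simp
    _ ≤ _ := Finset.sum_le_sum fun x _ => by
      rw [residueDegree_eq p]; exact Module.finrank_pos

theorem finiteOfDegLE_of_isReduced [IsAlgClosed K] [IsReduced T] {n : ℕ} (hn : Nat.card T ≤ n) :
    FiniteOfDegLE (CommRingCat.of K) p n := by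
  have hT : IsAffine T := isAffine_of_isAffineHom p
  letI := secAlgebra (CommRingCat.of K) p
  letI : ∀ x, Algebra K (T.residueField x) := fun x => (resHom p x).toAlgebra
  have hfin : Module.Finite K (Γ(T, ⊤) : Type u) := by
    obtain ⟨-, h, -⟩ : FiniteOfDegLE (CommRingCat.of K) p
        (p.finrank (default : Spec (CommRingCat.of K))) :=
      (finiteOfDegLE_iff p _).2 ⟨inferInstance, fun v =>
        (congrArg p.finrank (Subsingleton.elim v default)).le⟩
    exact h
  refine ⟨hT, hfin, ?_⟩
  obtain ⟨E, hE, hsurj⟩ := exists_eval p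
  have := finite_points p
  haveI := Fintype.ofFinite T
  have : ∀ x : T, Module.Finite K (T.residueField x) := fun x =>
    Module.Finite.of_surjective ((LinearMap.proj x).comp E.toLinearMap)
      ((Function.surjective_eval x).comp hsurj)
  have hone : ∀ x : T, Module.finrank K (T.residueField x) = 1 := fun x =>
    (LinearEquiv.ofBijective (Algebra.linearMap K (T.residueField x))
      (IsAlgClosed.algebraMap_bijective_of_isIntegral (k := K))).finrank_eq.symm.trans
      (Module.finrank_self K)
  have hinj : Function.Injective E := by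
    rw [injective_iff_map_eq_zero]
    intro s hs
    rw [← basicOpen_eq_bot_iff, eq_bot_iff]
    intro x hx
    refine absurd ?_ ((Scheme.evaluation_ne_zero_iff_mem_basicOpen _ x (show x ∈ (⊤ : T.Opens) from trivial) s).2 hx)
    exact (hE s x).symm.trans (congrFun hs x)
  have h1 := LinearMap.finrank_le_finrank_of_injective (f := E.toLinearMap) hinj
  rw [Module.finrank_pi_fintype, Finset.sum_congr rfl fun x _ => hone x] at h1
  refine h1.trans ?_
  simpa using hn

omit [IsFinite p] in
theorem finiteOfDegLE_of_etale [IsAlgClosed K] [Etale p] [Finite T] {n : ℕ}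
    (hn : Nat.card T ≤ n) : FiniteOfDegLE (CommRingCat.of K) p n := by
  have : QuasiCompact p := (quasiCompact_iff_compactSpace p).2 Finite.compactSpace
  have : LocallyQuasiFinite p := .of_finite_preimage_singleton p fun _ => Set.toFinite _
  have : IsFinite p := .of_locallyQuasiFinite p
  have hT : IsAffine T := isAffine_of_isAffineHom p
  letI := secAlgebra (CommRingCat.of K) p
  have het : Algebra.Etale K (Γ(T, ⊤) : Type u) := by
    obtain ⟨φ, hφ⟩ := Spec.map_surjective (T.isoSpec.inv ≫ p)
    have h : Etale (Spec.map φ) := hφ ▸ inferInstance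
    rw [HasRingHomProperty.Spec_iff (P := @Etale)] at h
    have : φ = (Scheme.ΓSpecIso (CommRingCat.of K)).inv ≫ p.appTop := by
      apply Spec.map_injective
      rw [hφ, Spec.map_comp, Iso.inv_comp_eq, Scheme.isoSpec_hom_naturality_assoc]
      simp [Scheme.isoSpec_Spec_hom, ← Spec.map_comp]
    rw [this] at h
    exact h
  have : _root_.IsReduced (Γ(T, ⊤) : Type u) := Algebra.FormallyUnramified.isReduced_of_field K _
  have : IsReduced T := isReduced_of_isAffine_isReduced T
  exact finiteOfDegLE_of_isReduced p hn

omit [IsFinite p] in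
theorem natCard_le (f : X ⟶ Y) {n : ℕ} (hf : FibreDegLE f n)
    (g : Spec (CommRingCat.of K) ⟶ Y) :
    Finite ↥(pullback f g) ∧ Nat.card ↥(pullback f g) ≤ n ∧
      ∑ᶠ x : ↥(pullback f g), (pullback.snd f g).residueDegree x ≤ n := by
  have h := bdd_of_isPullback f hf (IsPullback.of_hasPullback f g)
  have := ((finiteOfDegLE_iff _ _).1 h).1
  exact ⟨finite_points (pullback.snd f g), sum_residueDegree_le _ h⟩

omit [IsFinite p] in
theorem fibreDegLE_of_etale (f : X ⟶ Y) [Etale f] (n : ℕ)
    (h : ∀ (k : Type u) [Field k] (g : Spec (CommRingCat.of k) ⟶ Y),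
      Finite ↥(pullback f g) ∧ Nat.card ↥(pullback f g) ≤ n) : FibreDegLE f n := by
  intro y
  let φ : CommRingCat.of (Y.residueField y) ⟶ CommRingCat.of (AlgebraicClosure (Y.residueField y)) :=
    CommRingCat.ofHom (algebraMap _ _)
  obtain ⟨hfin, hcard⟩ := h (AlgebraicClosure (Y.residueField y))
    (Spec.map φ ≫ Y.fromSpecResidueField y)
  have : Etale (pullback.snd f (Spec.map φ ≫ Y.fromSpecResidueField y)) :=
    MorphismProperty.pullback_snd _ _ inferInstance
  refine finiteOfDegLE_descent (K := Y.residueField y) (φ := φ)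
    (fst := pullback.lift (pullback.fst f (Spec.map φ ≫ Y.fromSpecResidueField y))
      (pullback.snd _ _ ≫ Spec.map φ) (by rw [pullback.condition, Category.assoc])) ?_
    (finiteOfDegLE_of_etale (pullback.snd f (Spec.map φ ≫ Y.fromSpecResidueField y)) hcard)
  refine IsPullback.of_right (h₁₂ := f.fiberι y) (v₁₃ := f) (h₂₂ := Y.fromSpecResidueField y) ?_ ?_
    (IsPullback.of_hasPullback f (Y.fromSpecResidueField y))
  · erw [pullback.lift_fst]
    exact IsPullback.of_hasPullback _ _
  · exact pullback.lift_snd _ _ _

end BddFibLib
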