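import Groth.Agent.BddFibLib.Comp

/-!
# Locally quasi-finite morphisms with quasi-compact source have universally bounded fibres
-/

universe u

open CategoryTheory Limits AlgebraicGeometry
open scoped TensorProduct

namespace BddFibLib

open BddFib

section Algebra

variable {k : Type*} [Field k] {T : Type*} [CommRing T] [Algebra k T]

/-- A finite-dimensional subalgebra containing an element invertible in the algebra contains its
inverse. -/
theorem exists_mem_mul_eq_one (P : Subalgebra k T) [Module.Finite k P] {u : T} (hu : u ∈ P)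
    (hunit : IsUnit u) : ∃ v ∈ P, u * v = 1 := by
  let L : P →ₗ[k] P := LinearMap.mulLeft k ⟨u, hu⟩
  have hinj : Function.Injective L := fun a b h =>
    Subtype.ext (hunit.mul_left_cancel (congrArg Subtype.val h))
  obtain ⟨v, hv⟩ := (LinearMap.injective_iff_surjective.1 hinj) 1
  exact ⟨v, v.2, congrArg Subtype.val hv⟩

/-- A localisation at an element receiving a surjection up to denominators from a finite-dimensional
algebra is finite-dimensional, of no larger dimension. -/
theorem finrank_away_le {C : Type*} [CommRing C] [Algebra k C] [Module.Finite k C]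
    (ψ : C →ₐ[k] T) (r : C) (L : Type*) [CommRing L] [Algebra T L] [Algebra k L]
    [IsScalarTower k T L] [IsLocalization.Away (ψ r) L]
    (h : ∀ x : T, ∃ N : ℕ, ψ r ^ N * x ∈ ψ.range) :
    Module.Finite k L ∧ Module.finrank k L ≤ Module.finrank k C := by
  let χ : C →ₐ[k] L := (IsScalarTower.toAlgHom k T L).comp ψ
  haveI : Module.Finite k χ.range :=
    Module.Finite.of_surjective χ.rangeRestrict.toLinearMap χ.rangeRestrict_surjective
  obtain ⟨v, hv, huv⟩ := exists_mem_mul_eq_one χ.range (u := algebraMap T L (ψ r))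
    ⟨r, rfl⟩ (IsLocalization.Away.algebraMap_isUnit (ψ r))
  have hT : ∀ x : T, algebraMap T L x ∈ χ.range := by
    intro x
    obtain ⟨N, c, hc⟩ := h x
    have hc' : χ c = algebraMap T L (ψ r) ^ N * algebraMap T L x := by
      change algebraMap T L (ψ c) = _
      have : ψ c = ψ r ^ N * x := hc
      rw [this, map_mul, map_pow]
    have : algebraMap T L x = v ^ N * χ c := by
      rw [hc', ← mul_assoc, ← mul_pow, mul_comm v, huv, one_pow, one_mul]
    rw [this]
    exact mul_mem (pow_mem hv N) ⟨c, rfl⟩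
  have hsurj : Function.Surjective χ := by
    intro l
    obtain ⟨⟨x, s⟩, hl⟩ := IsLocalization.surj (Submonoid.powers (ψ r)) l
    obtain ⟨N, hN⟩ := s.2
    have hs : (s : T) = ψ r ^ N := hN.symm
    have : l = v ^ N * algebraMap T L x := by
      rw [← hl, hs, map_pow, mul_comm l, ← mul_assoc, ← mul_pow, mul_comm v, huv, one_pow, one_mul]
    rw [this]
    exact mul_mem (pow_mem hv N) (hT x)
  exact ⟨Module.Finite.of_surjective χ.toLinearMap hsurj,
    LinearMap.finrank_le_finrank_of_surjective (f := χ.toLinearMap) hsurj⟩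

end Algebra

theorem exists_pow_mul_mem {A B : Type u} [CommRing A] [CommRing B] [Algebra A B]
    {S : Subalgebra A B} {r : S}
    (hbij : Function.Bijective (Localization.awayMap S.val.toRingHom r)) (b : B) :
    ∃ N : ℕ, (r : B) ^ N * b ∈ S := by
  obtain ⟨z, hz⟩ := hbij.2 (algebraMap B (Localization.Away (S.val.toRingHom r)) b)
  obtain ⟨⟨c, s⟩, hc⟩ := IsLocalization.surj (Submonoid.powers r) z
  obtain ⟨n, hn⟩ := s.2
  have h2 := congrArg (Localization.awayMap S.val.toRingHom r) hc
  rw [map_mul, hz] at h2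
  simp only [Localization.awayMap, IsLocalization.Away.map, IsLocalization.map_eq] at h2
  rw [← map_mul] at h2
  obtain ⟨w, hw⟩ := (IsLocalization.eq_iff_exists (Submonoid.powers (S.val.toRingHom r)) _).1 h2
  obtain ⟨m, hm⟩ := w.2
  refine ⟨m + n, ?_⟩
  have hs : ((s : S) : B) = (r : B) ^ n := by rw [← hn, SubmonoidClass.coe_pow]
  have hw' : (r : B) ^ m * (b * (s : S)) = (r : B) ^ m * (c : B) := by
    have hm' : (r : B) ^ m = (w : B) := hm
    rw [hm']; exact hw
  rw [pow_add, mul_assoc, mul_comm ((r : B) ^ n) b, ← hs, hw']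
  exact mul_mem (pow_mem r.2 m) c.2

/-- A quasi-finite algebra of finite type has fibres of bounded dimension. -/
theorem exists_bound_finrank (A B : Type u) [CommRing A] [CommRing B] [Algebra A B]
    [Algebra.QuasiFinite A B] [Algebra.FiniteType A B] :
    ∃ d : ℕ, ∀ (K : Type u) [Field K] [Algebra A K],
      Module.Finite K (K ⊗[A] B) ∧ Module.finrank K (K ⊗[A] B) ≤ d := by
  classical
  have h := fun p : PrimeSpectrum B =>
    Algebra.QuasiFiniteAt.exists_fg_and_exists_notMem_and_awayMap_bijective (R := A) p.asIdeal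
  choose S hS r hr hbij using h
  obtain ⟨s, hs⟩ := isCompact_univ.elim_finite_subcover
    (fun p : PrimeSpectrum B => (PrimeSpectrum.basicOpen (r p).1 : Set (PrimeSpectrum B)))
    (fun p => (PrimeSpectrum.basicOpen _).2) fun p _ => Set.mem_iUnion.mpr ⟨p, hr p⟩
  have hfin : ∀ p, Module.Finite A (S p) := fun p => Module.Finite.iff_fg.mpr (hS p)
  choose d π hπ using fun p => @Module.Finite.exists_fin' A (S p) _ _ _ (hfin p)
  refine ⟨∑ p ∈ s, d p, fun K _ _ => ?_⟩
  let T : Type u := K ⊗[A] B
  let ψ : ∀ p : s, (K ⊗[A] S p.1) →ₐ[K] T := fun p =>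
    Algebra.TensorProduct.map (AlgHom.id K K) (S p.1).val
  let L : s → Type u := fun p => Localization.Away (ψ p ((1 : K) ⊗ₜ[A] r p.1))
  have hL : ∀ p : s, Module.Finite K (L p) ∧ Module.finrank K (L p) ≤ d p.1 := by
    intro p
    have hkey : ∀ x : T, ∃ N : ℕ, ψ p ((1 : K) ⊗ₜ[A] r p.1) ^ N * x ∈ (ψ p).range := by
      intro x
      induction x using TensorProduct.induction_on with
      | zero => exact ⟨0, by rw [mul_zero]; exact zero_mem _⟩
      | tmul c b =>
        obtain ⟨N, hN⟩ := exists_pow_mul_mem (hbij p.1) b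
        refine ⟨N, c ⊗ₜ[A] ⟨_, hN⟩, ?_⟩
        change ψ p (c ⊗ₜ[A] (⟨_, hN⟩ : S p.1)) = _
        erw [Algebra.TensorProduct.map_tmul, Algebra.TensorProduct.map_tmul]
        simp
        erw [Algebra.TensorProduct.tmul_pow, Algebra.TensorProduct.tmul_mul_tmul]
        simp
      | add x y hx hy =>
        obtain ⟨N, hN⟩ := hx
        obtain ⟨M, hM⟩ := hy
        refine ⟨N + M, ?_⟩
        rw [mul_add, pow_add]
        refine add_mem ?_ ?_
        · rw [mul_comm (_ ^ N), mul_assoc]
          exact mul_mem (pow_mem (show ψ p ((1 : K) ⊗ₜ[A] r p.1) ∈ (ψ p).range from ⟨_, rfl⟩) M) hN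
        · rw [mul_assoc]
          exact mul_mem (pow_mem (show ψ p ((1 : K) ⊗ₜ[A] r p.1) ∈ (ψ p).range from ⟨_, rfl⟩) N) hM
    haveI := hfin p.1
    obtain ⟨h1, h2⟩ := finrank_away_le (ψ p) ((1 : K) ⊗ₜ[A] r p.1) (L p) hkey
    refine ⟨h1, h2.trans ?_⟩
    have hsurj : Function.Surjective ((π p.1).baseChange K) := LinearMap.baseChange_surjective K (hπ p.1)
    refine (LinearMap.finrank_le_finrank_of_surjective hsurj).trans (le_of_eq ?_)
    have := (algebraMap A K).domain_nontrivial
    rw [Module.finrank_baseChange, Module.finrank_fin_fun]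
  let Φ : T →ₗ[K] ∀ p : s, L p :=
    LinearMap.pi fun p => (IsScalarTower.toAlgHom K T (L p)).toLinearMap
  have hΦ : Function.Injective Φ := by
    rw [injective_iff_map_eq_zero]
    intro x hx
    have hann : ∀ p : s, ∃ N : ℕ, ψ p ((1 : K) ⊗ₜ[A] r p.1) ^ N * x = 0 := fun p => by
      obtain ⟨⟨_, N, rfl⟩, hw⟩ := (IsLocalization.map_eq_zero_iff
        (Submonoid.powers (ψ p ((1 : K) ⊗ₜ[A] r p.1))) (L p) x).1 (congrFun hx p)
      exact ⟨N, hw⟩
    choose N hN using hann
    have htop : Ideal.span (Set.range fun p : s => (r p.1 : B)) = ⊤ := by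
      by_contra hne
      obtain ⟨m, hm, hle⟩ := Ideal.exists_le_maximal _ hne
      obtain ⟨p, hp, hpm⟩ := Set.mem_iUnion₂.1 (hs (Set.mem_univ (⟨m, hm.isPrime⟩ : PrimeSpectrum B)))
      exact hpm (hle (Ideal.subset_span ⟨⟨p, hp⟩, rfl⟩))
    have htop' : Ideal.span (Set.range fun p : s => ψ p ((1 : K) ⊗ₜ[A] r p.1)) = ⊤ := by
      have := congrArg (Ideal.map (Algebra.TensorProduct.includeRight : B →ₐ[A] T).toRingHom) htop
      rw [Ideal.map_span, Ideal.map_top, ← Set.range_comp] at this
      convert this using 3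
      ext p
      erw [Algebra.TensorProduct.map_tmul]
      simp
    have hpow := Ideal.span_pow_eq_top _ htop' (∑ p, N p)
    have : ∀ y ∈ Ideal.span ((fun z : T => z ^ ∑ p, N p) ''
        Set.range fun p : s => ψ p ((1 : K) ⊗ₜ[A] r p.1)), y * x = 0 := by
      intro y hy
      induction hy using Submodule.span_induction with
      | mem y hy =>
        obtain ⟨_, ⟨p, rfl⟩, rfl⟩ := hy
        obtain ⟨m, hm⟩ : ∃ m, ∑ p, N p = m + N p :=
          ⟨(∑ q, N q) - N p, by
            have := Finset.single_le_sum (f := N) (fun q _ => Nat.zero_le _) (Finset.mem_univ p)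
            omega⟩
        change ψ p ((1 : K) ⊗ₜ[A] r p.1) ^ (∑ q, N q) * x = 0
        rw [hm, pow_add, mul_assoc, hN p, mul_zero]
      | zero => rw [zero_mul]
      | add a b _ _ ha hb => rw [add_mul, ha, hb, add_zero]
      | smul a b _ hb => rw [smul_eq_mul, mul_assoc, hb, mul_zero]
    simpa using this 1 (hpow ▸ trivial)
  haveI : ∀ p : s, Module.Finite K (L p) := fun p => (hL p).1
  refine ⟨Module.Finite.of_injective Φ hΦ, ?_⟩
  refine (LinearMap.finrank_le_finrank_of_injective hΦ).trans ?_
  rw [Module.finrank_pi_fintype]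
  exact (Finset.sum_le_sum fun p _ => (hL p).2).trans (Finset.sum_coe_sort s d).le

variable {X Y : Scheme.{u}}

theorem univBounded_SpecMap {A B : Type u} [CommRing A] [CommRing B] [Algebra A B]
    [Algebra.QuasiFinite A B] [Algebra.FiniteType A B] :
    UnivBounded (Spec.map (CommRingCat.ofHom (algebraMap A B))) := by
  obtain ⟨d, hd⟩ := exists_bound_finrank A B
  refine ⟨d, (fibreDegLE_iff _ d).2 fun K _ g => ?_⟩
  obtain ⟨φ, rfl⟩ := Spec.map_surjective g
  letI := φ.hom.toAlgebra
  obtain ⟨hfin, hrk⟩ := hd K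
  have sq : IsPullback
      (Spec.map (CommRingCat.ofHom (Algebra.TensorProduct.includeRight (R := A) (A := K) (B := B)).toRingHom))
      (Spec.map (CommRingCat.ofHom (Algebra.TensorProduct.includeLeftRingHom (R := A) (A := K) (B := B))))
      (Spec.map (CommRingCat.ofHom (algebraMap A B))) (Spec.map φ) :=
    (isPullback_SpecMap_of_isPushout _ _ _ _ (CommRingCat.isPushout_tensorProduct A K B)).flip
  have h : FiniteOfDegLE (CommRingCat.of K)
      (Spec.map (CommRingCat.ofHom (Algebra.TensorProduct.includeLeftRingHom (R := A) (A := K) (B := B)))) d := by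
    rw [finiteOfDegLE_iff]
    refine ⟨(IsFinite.SpecMap_iff _).2 (RingHom.finite_algebraMap.2 hfin), fun v => ?_⟩
    refine le_trans (le_of_eq ?_) hrk
    exact (Scheme.Hom.finrank_SpecMap_algebraMap K (K ⊗[A] B) v).trans
      (congrFun Module.rankAtStalk_eq_finrank_of_free v)
  have e : sq.isoPullback.inv ≫
      Spec.map (CommRingCat.ofHom (Algebra.TensorProduct.includeLeftRingHom (R := A) (A := K) (B := B))) =
      pullback.snd _ _ := sq.isoPullback_inv_snd
  rw [← e]
  exact finiteOfDegLE_of_iso sq.isoPullback.symm _ _ h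

theorem univBounded_affine_chart (f : X ⟶ Y) [LocallyQuasiFinite f] [LocallyOfFiniteType f]
    {U : X.Opens} (hU : IsAffineOpen U) {V : Y.Opens} (hV : IsAffineOpen V) (e : U ≤ f ⁻¹ᵁ V) :
    UnivBounded (U.ι ≫ f) := by
  have : IsAffine U.toScheme := hU
  have : IsAffine V.toScheme := hV
  let k := f.resLE V U e
  have h₁ : k.appTop.hom.FiniteType :=
    HasRingHomProperty.appTop (P := @LocallyOfFiniteType) k inferInstance
  have h₂ : k.appTop.hom.QuasiFinite :=
    HasRingHomProperty.appTop (P := @LocallyQuasiFinite) k inferInstance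
  algebraize [k.appTop.hom]
  obtain ⟨d, hd⟩ := univBounded_SpecMap (A := Γ(V.toScheme, ⊤)) (B := Γ(U.toScheme, ⊤))
  have hk : FibreDegLE k d :=
    fibreDegLE_of_isPullback _ _ k _ (IsPullback.of_horiz_isIso (fst := U.toScheme.isoSpec.hom)
      (g := V.toScheme.isoSpec.hom) ⟨Scheme.isoSpec_hom_naturality k⟩) d hd
  refine ⟨d * 1, ?_⟩
  rw [← Scheme.Hom.resLE_comp_ι f e]
  exact fibreDegLE_comp k V.ι d 1 hk (fibreDegLE_one_of_isImmersion V.ι)

theorem univBounded_of_locallyQuasiFinite (f : X ⟶ Y) [LocallyQuasiFinite f]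
    [LocallyOfFiniteType f] [CompactSpace X] : UnivBounded f := by
  have h : ∀ x : X, ∃ U : X.Opens, x ∈ U ∧ ∃ d, FibreDegLE (U.ι ≫ f) d := fun x => by
    obtain ⟨V, hV, hxV, -⟩ :=
      exists_isAffineOpen_mem_and_subset (TopologicalSpace.Opens.mem_top (f x))
    obtain ⟨U, hU, hxU, hUV⟩ := exists_isAffineOpen_mem_and_subset (x := x) (U := f ⁻¹ᵁ V) hxV
    exact ⟨U, hxU, univBounded_affine_chart f hU hV hUV⟩
  choose U hxU d hd using h
  obtain ⟨s, hs⟩ := isCompact_univ.elim_finite_subcover (fun x => (U x : Set X))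
    (fun x => (U x).2) fun x _ => Set.mem_iUnion.mpr ⟨x, hxU x⟩
  refine ⟨∑ x ∈ s, d x, (fibreDegLE_iff f _).2 fun K _ g => ?_⟩
  set fst := pullback.fst f g
  set p := pullback.snd f g
  let W : s → (pullback f g).Opens := fun x => fst ⁻¹ᵁ U x.1
  have hW : ∀ x : s, FiniteOfDegLE (CommRingCat.of K) ((W x).ι ≫ p) (d x.1) := fun x => by
    refine bdd_of_isPullback ((U x.1).ι ≫ f) (hd x.1) (fst := fst ∣_ U x.1) (g := g) ?_
    exact IsPullback.paste_vert (isPullback_morphismRestrict fst (U x.1))
      (IsPullback.of_hasPullback f g)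
  have hcov : ∀ z : ↥(pullback f g), ∃ x : s, z ∈ W x := fun z => by
    obtain ⟨x, hx, hz⟩ := Set.mem_iUnion₂.1 (hs (Set.mem_univ (fst z)))
    exact ⟨⟨x, hx⟩, hz⟩
  have : CompactSpace ↥(pullback f g) := by
    refine ⟨?_⟩
    have hu : (Set.univ : Set ↥(pullback f g)) = ⋃ x : s, Set.range (W x).ι := by
      simp only [Scheme.Opens.range_ι]
      ext z; simpa using hcov z
    rw [hu]
    refine isCompact_iUnion fun x => ?_
    have := (hW x).1
    exact isCompact_range (W x).ι.continuous
  have : QuasiCompact p := (quasiCompact_iff_compactSpace _).2 this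
  have : IsFinite p := .of_locallyQuasiFinite p
  have hT : IsAffine (pullback f g) := isAffine_of_isAffineHom p
  letI := secAlgebra (CommRingCat.of K) p
  letI : ∀ x : s, Algebra K Γ((W x).toScheme, ⊤) :=
    fun x => secAlgebra (CommRingCat.of K) ((W x).ι ≫ p)
  let Φ : (Γ(pullback f g, ⊤) : Type u) →ₗ[K] ∀ x : s, (Γ((W x).toScheme, ⊤) : Type u) :=
    LinearMap.pi fun x =>
      { toFun := (W x).ι.appTop.hom
        map_add' := map_add _
        map_smul' := fun a z => by
          rw [Algebra.smul_def, map_mul, RingHom.id_apply, Algebra.smul_def]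
          congr 1 }
  have hΦ : Function.Injective Φ := by
    intro a b hab
    refine TopCat.Sheaf.eq_of_locally_eq' (pullback f g).sheaf W ⊤ (fun _ => homOfLE le_top)
      (fun z _ => TopologicalSpace.Opens.mem_iSup.2 (hcov z)) a b fun x => ?_
    have := congrFun hab x
    change (W x).ι.appTop a = (W x).ι.appTop b at this
    rw [Scheme.Opens.ι_appTop] at this
    refine (ConcreteCategory.bijective_of_isIso
      ((pullback f g).presheaf.map (eqToHom (W x).ι_image_top).op)).injective ?_
    erw [← CategoryTheory.comp_apply, ← CategoryTheory.comp_apply, ← Functor.map_comp, ← op_comp]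
    exact this
  haveI : ∀ x : s, Module.Finite K (Γ((W x).toScheme, ⊤) : Type u) := fun x => (hW x).2.1
  refine ⟨hT, Module.Finite.of_injective Φ hΦ, ?_⟩
  refine (LinearMap.finrank_le_finrank_of_injective hΦ).trans ?_
  rw [Module.finrank_pi_fintype]
  exact (Finset.sum_le_sum fun x _ => (hW x).2.2).trans (Finset.sum_coe_sort s d).le

end BddFibLib
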