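import Groth.Prelude.Def_W4stkschemesremainderFib
import Groth.Agent.FpqcDesc.Props
import Mathlib

/-!
# Bounded fibre degrees: basic properties

`FiniteOfDegLE` over a field as "finite with rank at most `n`", base change and descent.
-/

universe u

open CategoryTheory Limits AlgebraicGeometry

namespace BddFibLib

open BddFib

variable {K L : Type u} [Field K] [Field L] {S T T' : Scheme.{u}}

set_option backward.isDefEq.respectTransparency.types false in
/-- A finite morphism to the spectrum of a field is flat. -/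
theorem flat_of_isFinite (p : T ⟶ Spec (CommRingCat.of K)) [IsFinite p] : Flat p := by
  have : IsAffine T := isAffine_of_isAffineHom p
  obtain ⟨φ, hφ⟩ := Spec.map_surjective (T.isoSpec.inv ≫ p)
  rw [← MorphismProperty.cancel_left_of_respectsIso @Flat T.isoSpec.inv, ← hφ, Flat.SpecMap_iff]
  algebraize [φ.hom]
  exact inferInstanceAs (Module.Flat K Γ(T, ⊤))

set_option backward.isDefEq.respectTransparency.types false in
theorem finiteOfDegLE_iff (p : T ⟶ Spec (CommRingCat.of K)) (n : ℕ) :
    FiniteOfDegLE (CommRingCat.of K) p n ↔ IsFinite p ∧ ∀ v, p.finrank v ≤ n := by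
  let φ := (Scheme.ΓSpecIso (CommRingCat.of K)).inv ≫ p.appTop
  have key : IsAffine T → φ.hom.Finite →
      ∀ v, p.finrank v = letI := φ.hom.toAlgebra; Module.finrank K (Γ(T, ⊤) : Type u) := by
    intro hT hfin v
    have hπ : T.isoSpec.inv ≫ p = Spec.map φ := by
      rw [Spec.map_comp, Iso.inv_comp_eq, Scheme.isoSpec_hom_naturality_assoc]
      simp [Scheme.isoSpec_Spec_hom, ← Spec.map_comp]
    letI := φ.hom.toAlgebra
    have hfin' : φ.hom.Finite := hfin
    have : IsFinite (Spec.map φ) := (IsFinite.SpecMap_iff φ).mpr hfin'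
    have : IsFinite p := by
      rw [← MorphismProperty.cancel_left_of_respectsIso @IsFinite T.isoSpec.inv, hπ]; infer_instance
    have : Flat p := flat_of_isFinite p
    rw [← Scheme.Hom.finrank_comp_left_of_isIso T.isoSpec.inv p, hπ,
      Scheme.Hom.finrank_SpecMap_eq_finrank hfin' (inferInstanceAs (Module.Flat K Γ(T, ⊤))),
      ← RingHom.algebraMap_toAlgebra φ.hom, RingHom.finrank_algebraMap,
      Module.rankAtStalk_eq_finrank_of_free]
    rfl
  constructor
  · rintro ⟨hT, hfin, hrk⟩
    refine ⟨?_, fun v => (key hT hfin v).le.trans hrk⟩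
    rw [HasAffineProperty.iff_of_isAffine (P := @IsFinite)]
    refine ⟨hT, ?_⟩
    have : ((Scheme.ΓSpecIso (CommRingCat.of K)).hom ≫ φ).hom.Finite :=
      RingHom.Finite.comp (g := φ.hom) hfin
        (RingHom.Finite.of_surjective _ (ConcreteCategory.bijective_of_isIso _).surjective)
    simpa [φ] using this
  · rintro ⟨hp, hrk⟩
    have hT : IsAffine T := isAffine_of_isAffineHom p
    have hfin : φ.hom.Finite := RingHom.Finite.comp (f := (Scheme.ΓSpecIso _).inv.hom) p.finite_appTop
      (RingHom.Finite.of_surjective _ (ConcreteCategory.bijective_of_isIso _).surjective)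
    exact ⟨hT, hfin, (key hT hfin (default : Spec (CommRingCat.of K))).ge.trans (hrk _)⟩

/-- Invariance under isomorphisms over `Spec K`. -/
theorem finiteOfDegLE_of_iso (e : T' ≅ T) (p : T ⟶ Spec (CommRingCat.of K)) (n : ℕ)
    (h : FiniteOfDegLE (CommRingCat.of K) p n) :
    FiniteOfDegLE (CommRingCat.of K) (e.hom ≫ p) n := by
  rw [finiteOfDegLE_iff] at h ⊢
  have := h.1
  have := flat_of_isFinite p
  exact ⟨inferInstance, fun v => by rw [Scheme.Hom.finrank_comp_left_of_isIso]; exact h.2 v⟩

/-- Field extensions give surjective flat quasi-compact morphisms. -/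
theorem fpqc_SpecMap (φ : CommRingCat.of K ⟶ CommRingCat.of L) :
    Groth.Agent.FpqcDesc.FPQC (Spec.map φ) := by
  refine ⟨⟨⟨fun x => ⟨(default : Spec (CommRingCat.of L)), Subsingleton.elim (α := PrimeSpectrum K) _ _⟩⟩, ?_⟩,
    inferInstance⟩
  change Flat (Spec.map φ)
  rw [Flat.SpecMap_iff]
  algebraize [φ.hom]
  exact inferInstanceAs (Module.Flat K L)

theorem finiteOfDegLE_of_isPullback {φ : CommRingCat.of K ⟶ CommRingCat.of L} {fst : T' ⟶ T}
    {p' : T' ⟶ Spec (CommRingCat.of L)} {p : T ⟶ Spec (CommRingCat.of K)}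
    (sq : IsPullback fst p' p (Spec.map φ)) {n : ℕ} (h : FiniteOfDegLE (CommRingCat.of K) p n) :
    FiniteOfDegLE (CommRingCat.of L) p' n := by
  rw [finiteOfDegLE_iff] at h ⊢
  have := h.1
  have := flat_of_isFinite p
  refine ⟨MorphismProperty.of_isPullback sq inferInstance, fun v => ?_⟩
  rw [Scheme.Hom.finrank_of_isPullback fst p' p _ sq v]
  exact h.2 _

theorem finiteOfDegLE_descent {φ : CommRingCat.of K ⟶ CommRingCat.of L} {fst : T' ⟶ T}
    {p' : T' ⟶ Spec (CommRingCat.of L)} {p : T ⟶ Spec (CommRingCat.of K)}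
    (sq : IsPullback fst p' p (Spec.map φ)) {n : ℕ} (h : FiniteOfDegLE (CommRingCat.of L) p' n) :
    FiniteOfDegLE (CommRingCat.of K) p n := by
  rw [finiteOfDegLE_iff] at h ⊢
  have := Groth.Agent.FpqcDesc.descendsAlong_isFinite.{u}
  have : IsFinite p := MorphismProperty.of_isPullback_of_descendsAlong (P := @IsFinite)
    (Q := Groth.Agent.FpqcDesc.FPQC) sq.flip (fpqc_SpecMap φ) h.1
  have := flat_of_isFinite p
  refine ⟨inferInstance, fun v => ?_⟩
  have hv : (Spec.map φ) (default : Spec (CommRingCat.of L)) = v :=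
    Subsingleton.elim (α := PrimeSpectrum K) _ _
  rw [← hv, ← Scheme.Hom.finrank_of_isPullback fst p' p _ sq]
  exact h.2 _

variable {X Y X' Y' : Scheme.{u}}

theorem bdd_of_isPullback (f : X ⟶ Y) {n : ℕ} (hf : FibreDegLE f n) {fst : T ⟶ X}
    {p : T ⟶ Spec (CommRingCat.of K)} {g : Spec (CommRingCat.of K) ⟶ Y}
    (sq : IsPullback fst p f g) : FiniteOfDegLE (CommRingCat.of K) p n := by
  obtain ⟨⟨y, φ⟩, rfl⟩ := (Scheme.SpecToEquivOfField K Y).symm.surjective g
  have hy : FiniteOfDegLE (CommRingCat.of (Y.residueField y)) (f.fiberToSpecResidueField y) n := hf y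
  refine finiteOfDegLE_of_isPullback (φ := φ)
    (fst := pullback.lift fst (p ≫ Spec.map φ) (by simpa using sq.w)) ?_ hy
  refine IsPullback.of_right (h₁₂ := f.fiberι y) (v₁₃ := f) (h₂₂ := Y.fromSpecResidueField y) ?_ ?_
    (IsPullback.of_hasPullback f (Y.fromSpecResidueField y))
  · have e : pullback.lift fst (p ≫ Spec.map φ) (by simpa using sq.w) ≫ f.fiberι y = fst :=
      pullback.lift_fst _ _ _
    erw [e]; exact sq
  · exact pullback.lift_snd _ _ _

theorem fibreDegLE_iff (f : X ⟶ Y) (n : ℕ) :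
    FibreDegLE f n ↔ ∀ (k : Type u) [Field k] (g : Spec (CommRingCat.of k) ⟶ Y),
      FiniteOfDegLE (CommRingCat.of k) (pullback.snd f g) n :=
  ⟨fun hf _ _ g => bdd_of_isPullback f hf (IsPullback.of_hasPullback f g),
    fun h y => h (Y.residueField y) (Y.fromSpecResidueField y)⟩

theorem fibreDegLE_of_isPullback (f : X ⟶ Y) (g : Y' ⟶ Y) (f' : X' ⟶ Y') (g' : X' ⟶ X)
    (h : IsPullback g' f' f g) (n : ℕ) (hf : FibreDegLE f n) : FibreDegLE f' n :=
  (fibreDegLE_iff f' n).2 fun _ _ e =>
    bdd_of_isPullback f hf ((IsPullback.of_hasPullback f' e).paste_horiz h)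

theorem fibreDegLE_of_isPullback_of_surjective (f : X ⟶ Y) (g : Y' ⟶ Y) [Surjective g]
    (f' : X' ⟶ Y') (g' : X' ⟶ X) (h : IsPullback g' f' f g) (n : ℕ) (hf' : FibreDegLE f' n) :
    FibreDegLE f n := by
  intro y
  obtain ⟨y', rfl⟩ := g.surjective y
  exact finiteOfDegLE_descent (K := Y.residueField (g y')) (L := Y'.residueField y')
    (isPullback_fiberToSpecResidueField_of_isPullback h y') (hf' y')

theorem fibreDegLE_of_isFinLocFree (f : X ⟶ Y) [IsFinite f] [Flat f] {d : ℕ}
    (hd : ∀ y, f.finrank y ≤ d) : FibreDegLE f d := by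
  intro y
  refine (finiteOfDegLE_iff (K := Y.residueField y) (f.fiberToSpecResidueField y) d).2
    ⟨MorphismProperty.pullback_snd _ _ inferInstance, fun v => ?_⟩
  exact (Scheme.Hom.finrank_pullback_snd f (Y.fromSpecResidueField y) v).le.trans (hd _)

theorem finiteOfDegLE_one_of_isClosedImmersion (p : T ⟶ Spec (CommRingCat.of K))
    [IsClosedImmersion p] : FiniteOfDegLE (CommRingCat.of K) p 1 := by
  have hT : IsAffine T := isAffine_of_isAffineHom p
  have hs : Function.Surjective ((Scheme.ΓSpecIso (CommRingCat.of K)).inv ≫ p.appTop).hom := by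
    have h2 : Function.Surjective p.appTop :=
      (IsClosedImmersion.hasAffineProperty.iff_of_isAffine (f := p).mp inferInstance).2
    exact h2.comp
      (ConcreteCategory.bijective_of_isIso (Scheme.ΓSpecIso (CommRingCat.of K)).inv).surjective
  letI := secAlgebra (CommRingCat.of K) p
  refine ⟨hT, RingHom.Finite.of_surjective _ hs, ?_⟩
  refine finrank_le_one (1 : Γ(T, ⊤)) fun w => ?_
  obtain ⟨c, rfl⟩ := hs w
  exact ⟨c, by rw [Algebra.smul_def, mul_one]; rfl⟩

theorem fibreDegLE_one_of_isImmersion (f : X ⟶ Y) [IsImmersion f] : FibreDegLE f 1 := by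
  intro y
  have : IsImmersion (f.fiberToSpecResidueField y) := MorphismProperty.pullback_snd _ _ inferInstance
  have : IsClosedImmersion (f.fiberToSpecResidueField y) := by
    refine IsClosedImmersion.of_isPreimmersion _ ?_
    exact (Set.subsingleton_of_subsingleton (s := Set.range (f.fiberToSpecResidueField y))).isClosed
  exact finiteOfDegLE_one_of_isClosedImmersion (K := Y.residueField y) (f.fiberToSpecResidueField y)

end BddFibLib
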