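import Groth.Agent.BddFibLib.Points

/-!
# Bounded fibre degrees: composition and flat surjective triangles
-/

universe u

open CategoryTheory Limits AlgebraicGeometry
open scoped TensorProduct

namespace BddFibLib

open BddFib

section Algebra

variable {B A : Type u} [CommRing B] [IsArtinianRing B] [AddCommGroup A] [Module B A]
  [Module.Finite B A]

/-- A finite module over an Artinian ring with all fibres of dimension at most `n` is generated by
`n` elements. -/
theorem exists_surjective_of_finrank_le {n : ℕ}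
    (h : ∀ m : MaximalSpectrum B, ∃ a : Fin n → A,
      Submodule.span B (Set.range a) ⊔ m.asIdeal • (⊤ : Submodule B A) = ⊤) :
    ∃ φ : (Fin n → B) →ₗ[B] A, Function.Surjective φ := by
  classical
  haveI := Fintype.ofFinite (MaximalSpectrum B)
  choose a ha using h
  have he : ∀ m : MaximalSpectrum B, ∃ e : B, e - 1 ∈ m.asIdeal ∧
      ∀ m' ≠ m, e ∈ m'.asIdeal := by
    intro m
    have hs : ∀ m' : {m' : MaximalSpectrum B // m' ≠ m}, ∃ s ∈ m'.1.asIdeal, s ∉ m.asIdeal :=
      fun m' => SetLike.not_le_iff_exists.1 fun hle =>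
        m'.2 (MaximalSpectrum.ext (m'.1.isMaximal.eq_of_le m.isMaximal.ne_top hle))
    choose s hs hsm using hs
    have hP : ∏ m', s m' ∉ m.asIdeal := by
      intro hmem
      obtain ⟨i, -, hi⟩ := (m.isMaximal.isPrime.prod_mem_iff).1 hmem
      exact hsm i hi
    obtain ⟨c, i, hi, hci⟩ := m.isMaximal.exists_inv hP
    refine ⟨c * ∏ m', s m', by
      rw [show c * ∏ m', s m' - 1 = -i by rw [← hci]; ring]
      exact Submodule.neg_mem _ hi, fun m' hm' => ?_⟩
    exact Ideal.mul_mem_left _ _ (Ideal.mem_of_dvd _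
      (Finset.dvd_prod_of_mem s (Finset.mem_univ ⟨m', hm'⟩)) (hs ⟨m', hm'⟩))
  choose e he1 he0 using he
  let v : Fin n → A := fun i => ∑ m, e m • a m i
  refine ⟨Fintype.linearCombination B v, LinearMap.range_eq_top.1 ?_⟩
  rw [Fintype.range_linearCombination]
  set N := Submodule.span B (Set.range v) with hN
  have hm : ∀ m : MaximalSpectrum B, N ⊔ m.asIdeal • (⊤ : Submodule B A) = ⊤ := by
    intro m
    refine top_le_iff.1 ((ha m).symm.le.trans (sup_le ?_ le_sup_right))
    rw [Submodule.span_le]
    rintro _ ⟨i, rfl⟩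
    have hdiff : v i - a m i ∈ m.asIdeal • (⊤ : Submodule B A) := by
      have : v i - a m i = (e m - 1) • a m i + ∑ m' ∈ Finset.univ.erase m, e m' • a m' i := by
        simp only [v, ← Finset.add_sum_erase _ _ (Finset.mem_univ m), sub_smul, one_smul]; abel
      rw [this]
      refine Submodule.add_mem _ (Submodule.smul_mem_smul (he1 m) trivial)
        (Submodule.sum_mem _ fun m' hm' => Submodule.smul_mem_smul ?_ trivial)
      exact he0 m' m (Ne.symm (Finset.ne_of_mem_erase hm'))
    rw [SetLike.mem_coe, show a m i = v i - (v i - a m i) by abel]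
    exact Submodule.sub_mem _ ((le_sup_left : N ≤ _) (Submodule.subset_span ⟨i, rfl⟩))
      ((le_sup_right : m.asIdeal • (⊤ : Submodule B A) ≤ _) hdiff)
  have hprod : ∀ s : Finset (MaximalSpectrum B),
      N ⊔ (∏ m ∈ s, m.asIdeal) • (⊤ : Submodule B A) = ⊤ := by
    intro s
    induction s using Finset.induction_on with
    | empty => simp
    | insert m s hms ih =>
      rw [Finset.prod_insert hms]
      refine top_le_iff.1 (ih.symm.le.trans (sup_le le_sup_left ?_))
      conv_lhs => rw [← hm m]
      rw [Submodule.smul_sup, ← Submodule.smul_assoc, smul_eq_mul, mul_comm _ m.asIdeal]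
      exact sup_le_sup_right Submodule.smul_le_right _
  have hJ : (∏ m : MaximalSpectrum B, m.asIdeal) ≤ Ideal.jacobson ⊥ := by
    refine le_sInf fun I hI => ?_
    exact Ideal.prod_le_inf.trans (Finset.inf_le (f := MaximalSpectrum.asIdeal)
      (Finset.mem_univ (⟨I, hI.2⟩ : MaximalSpectrum B)))
  exact top_le_iff.1 (Submodule.le_of_le_smul_of_le_jacobson_bot Module.Finite.fg_top hJ
    (hprod Finset.univ).symm.le)

end Algebra

variable {K : Type u} [Field K] {S T X Y Z : Scheme.{u}}

theorem compactSpace_of_fibres_finite (h : S ⟶ T) [Finite T] (hh : ∀ t, IsFinite (h.fiberToSpecResidueField t)) :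
    CompactSpace S := by
  refine ⟨?_⟩
  have : (Set.univ : Set S) = ⋃ t : T, Set.range (h.fiberι t) := by
    ext s; simp [Scheme.Hom.range_fiberι]
  rw [this]
  refine isCompact_iUnion fun t => ?_
  have := hh t
  have : CompactSpace (h.fiber t) := QuasiCompact.compactSpace_of_compactSpace (h.fiberToSpecResidueField t)
  exact isCompact_range (h.fiberι t).continuous

theorem isFinite_comp_of_fibreDegLE (h : S ⟶ T) (q : T ⟶ Spec (CommRingCat.of K)) [IsFinite q]
    {n : ℕ} (hh : FibreDegLE h n) : IsFinite h := by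
  have hfib : ∀ t, IsFinite (h.fiberToSpecResidueField t) :=
    fun t => ((finiteOfDegLE_iff (K := T.residueField t) _ _).1 (hh t)).1
  have := finite_points q
  have : IsLocallyArtinian T := .of_locallyQuasiFinite q
  have : LocallyQuasiFinite h := .of_fiberToSpecResidueField h fun t => have := hfib t; inferInstance
  have : IsAffine T := isAffine_of_isAffineHom q
  have : QuasiCompact h :=
    (HasAffineProperty.iff_of_isAffine (P := @QuasiCompact)).2 (compactSpace_of_fibres_finite h hfib)
  exact .of_locallyQuasiFinite h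

set_option backward.isDefEq.respectTransparency.types false in
theorem finiteOfDegLE_comp (h : S ⟶ T) (q : T ⟶ Spec (CommRingCat.of K)) {n m : ℕ}
    (hh : FibreDegLE h n) (hq : FiniteOfDegLE (CommRingCat.of K) q m) :
    FiniteOfDegLE (CommRingCat.of K) (h ≫ q) (n * m) := by
  have hqfin : IsFinite q := ((finiteOfDegLE_iff _ _).1 hq).1
  have hhfin := isFinite_comp_of_fibreDegLE h q hh
  have hT : IsAffine T := hq.1
  have hS : IsAffine S := isAffine_of_isAffineHom h
  refine ⟨hS, ((finiteOfDegLE_iff (h ≫ q) ((h ≫ q).finrank default)).2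
    ⟨inferInstance, fun v => (congrArg (h ≫ q).finrank (Subsingleton.elim v default)).le⟩).2.1, ?_⟩
  let B : Type u := Γ(T, ⊤)
  let A : Type u := Γ(S, ⊤)
  letI : Algebra K B := secAlgebra (CommRingCat.of K) q
  letI : Algebra K A := secAlgebra (CommRingCat.of K) (h ≫ q)
  letI : Algebra B A := h.appTop.hom.toAlgebra
  haveI : IsScalarTower K B A := IsScalarTower.of_algebraMap_eq fun r => by
    change ((Scheme.ΓSpecIso (CommRingCat.of K)).inv ≫ (h ≫ q).appTop).hom r = _
    rw [Scheme.Hom.comp_appTop]; rfl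
  haveI : Module.Finite K B := hq.2.1
  haveI : IsArtinianRing B := IsArtinianRing.of_finite K B
  haveI : Module.Finite B A := h.finite_appTop
  have hsp : S.isoSpec.inv ≫ h = Spec.map (CommRingCat.ofHom (algebraMap B A)) ≫ T.isoSpec.inv :=
    (Scheme.isoSpec_inv_naturality h).symm
  have hfib : ∀ M : MaximalSpectrum B, ∃ a : Fin n → A,
      Submodule.span B (Set.range a) ⊔ M.asIdeal • (⊤ : Submodule B A) = ⊤ := by
    intro M
    haveI := M.isMaximal
    letI := Ideal.Quotient.field M.asIdeal
    let k : Type u := B ⧸ M.asIdeal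
    have sq0 : IsPullback (Spec.map (CommRingCat.ofHom (Algebra.TensorProduct.includeRight (R := B) (A := k) (B := A)).toRingHom))
        (Spec.map (CommRingCat.ofHom (Algebra.TensorProduct.includeLeftRingHom (R := B) (A := k) (B := A))))
        (Spec.map (CommRingCat.ofHom (algebraMap B A))) (Spec.map (CommRingCat.ofHom (algebraMap B k))) :=
      (isPullback_SpecMap_of_isPushout _ _ _ _ (CommRingCat.isPushout_tensorProduct B k A)).flip
    have sq1 : IsPullback S.isoSpec.inv (Spec.map (CommRingCat.ofHom (algebraMap B A))) h T.isoSpec.inv :=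
      IsPullback.of_horiz_isIso ⟨hsp⟩
    have hk := bdd_of_isPullback (K := k) h hh (sq0.paste_horiz sq1)
    obtain ⟨hfin, hrk⟩ := (finiteOfDegLE_iff _ _).1 hk
    have hfin' : Module.Finite k (k ⊗[B] A) := by
      have := (IsFinite.SpecMap_iff _).1 hfin
      exact RingHom.finite_algebraMap.1 this
    have hdim : Module.finrank k (k ⊗[B] A) ≤ n := by
      have e := Scheme.Hom.finrank_SpecMap_algebraMap k (k ⊗[B] A) default
      rw [Module.rankAtStalk_eq_finrank_of_free] at e
      exact (le_of_eq e.symm).trans (hrk _)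
    obtain ⟨b⟩ : Nonempty (Module.Basis (Fin (Module.finrank k (k ⊗[B] A))) k (k ⊗[B] A)) :=
      ⟨Module.finBasis k _⟩
    have hsurj : Function.Surjective (fun x : A => (1 : k) ⊗ₜ[B] x) :=
      TensorProduct.mk_surjective B A k Ideal.Quotient.mk_surjective
    choose w hw using fun i => hsurj (b i)
    let a : Fin n → A := fun i => if hi : (i : ℕ) < Module.finrank k (k ⊗[B] A) then w ⟨i, hi⟩ else 0
    refine ⟨a, top_le_iff.1 fun x _ => ?_⟩
    choose c hc using fun i => Ideal.Quotient.mk_surjective (b.repr ((1 : k) ⊗ₜ[B] x) i)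
    have hzero : (1 : k) ⊗ₜ[B] (x - ∑ i, c i • w i) = 0 := by
      rw [TensorProduct.tmul_sub, TensorProduct.tmul_sum, sub_eq_zero]
      conv_lhs => rw [← b.sum_repr ((1 : k) ⊗ₜ[B] x)]
      refine Finset.sum_congr rfl fun i _ => ?_
      rw [TensorProduct.tmul_smul, ← hw i, ← hc i]
      exact algebraMap_smul k (c i) _
    have hmem : x - ∑ i, c i • w i ∈ M.asIdeal • (⊤ : Submodule B A) := by
      have := congrArg (TensorProduct.quotTensorEquivQuotSMul A M.asIdeal) hzero
      rw [map_zero] at this
      rw [← Submodule.Quotient.mk_eq_zero]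
      simpa [k] using this
    rw [show x = ∑ i, c i • w i + (x - ∑ i, c i • w i) by abel]
    refine Submodule.add_mem_sup (Submodule.sum_mem _ fun i _ =>
      Submodule.smul_mem _ _ (Submodule.subset_span ⟨Fin.castLE hdim i, ?_⟩)) hmem
    simp [a, i.isLt]
  obtain ⟨φ, hφ⟩ := exists_surjective_of_finrank_le hfib
  calc Module.finrank K A ≤ Module.finrank K (Fin n → B) :=
        LinearMap.finrank_le_finrank_of_surjective (f := φ.restrictScalars K) hφ
    _ = n * Module.finrank K B := by simp [Module.finrank_pi_fintype]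
    _ ≤ n * m := Nat.mul_le_mul_left _ hq.2.2

theorem fibreDegLE_comp (f : X ⟶ Y) (g : Y ⟶ Z) (n m : ℕ) (hf : FibreDegLE f n)
    (hg : FibreDegLE g m) : FibreDegLE (f ≫ g) (n * m) := by
  rw [fibreDegLE_iff]
  intro k _ z
  let h : pullback (f ≫ g) z ⟶ pullback g z :=
    pullback.lift (pullback.fst _ _ ≫ f) (pullback.snd _ _) (by simp [pullback.condition])
  have sq : IsPullback (pullback.fst (f ≫ g) z) h f (pullback.fst g z) := by
    refine IsPullback.of_bot (h₃₁ := z) (v₂₂ := g) (v₂₁ := pullback.snd g z) ?_ ?_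
      (IsPullback.of_hasPullback g z)
    · have e : h ≫ pullback.snd g z = pullback.snd (f ≫ g) z := pullback.lift_snd _ _ _
      rw [e]; exact IsPullback.of_hasPullback (f ≫ g) z
    · exact (pullback.lift_fst _ _ _).symm
  have : h ≫ pullback.snd g z = pullback.snd (f ≫ g) z := pullback.lift_snd _ _ _
  rw [← this]
  exact finiteOfDegLE_comp h _ (fibreDegLE_of_isPullback f _ h _ sq n hf)
    ((fibreDegLE_iff g m).1 hg k z)

set_option backward.isDefEq.respectTransparency.types false in
theorem finiteOfDegLE_of_flat_surjective_of_isAffine (h : S ⟶ T) [Flat h] [Surjective h]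
    [IsAffine T] (q : T ⟶ Spec (CommRingCat.of K)) {n : ℕ}
    (hS : FiniteOfDegLE (CommRingCat.of K) (h ≫ q) n) : FiniteOfDegLE (CommRingCat.of K) q n := by
  have hSA : IsAffine S := hS.1
  have hinj : Function.Injective h.appTop.hom := by
    have hff : Flat (Spec.map h.appTop) ∧ Surjective (Spec.map h.appTop) := by
      have e : Spec.map h.appTop = S.isoSpec.inv ≫ h ≫ T.isoSpec.hom := by
        rw [← Category.assoc, ← Scheme.isoSpec_inv_naturality h]; simp
      rw [e]
      exact ⟨inferInstance, inferInstance⟩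
    exact ((flat_and_surjective_SpecMap_iff _).1 hff).injective
  letI := secAlgebra (CommRingCat.of K) q
  letI := secAlgebra (CommRingCat.of K) (h ≫ q)
  let L : (Γ(T, ⊤) : Type u) →ₗ[K] (Γ(S, ⊤) : Type u) :=
    { toFun := h.appTop.hom
      map_add' := map_add _
      map_smul' := fun r x => by
        rw [Algebra.smul_def, map_mul, RingHom.id_apply, Algebra.smul_def]
        congr 1 }
  haveI : Module.Finite K (Γ(S, ⊤) : Type u) := hS.2.1
  exact ⟨‹_›, Module.Finite.of_injective L hinj,
    (LinearMap.finrank_le_finrank_of_injective (f := L) hinj).trans hS.2.2⟩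

theorem finiteOfDegLE_of_flat_surjective (h : S ⟶ T) [Flat h] [Surjective h]
    (q : T ⟶ Spec (CommRingCat.of K)) {n : ℕ}
    (hS : FiniteOfDegLE (CommRingCat.of K) (h ≫ q) n) : FiniteOfDegLE (CommRingCat.of K) q n := by
  have hfin : IsFinite (h ≫ q) := ((finiteOfDegLE_iff _ _).1 hS).1
  have : Finite S := finite_points (h ≫ q)
  have : Finite T := Finite.of_surjective h h.surjective
  have hqf : ∀ V : T.affineOpens, LocallyQuasiFinite (V.1.ι ≫ q) := by
    intro V
    haveI : IsAffine (V.1 : Scheme.{u}) := V.2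
    let U : S.Opens := h ⁻¹ᵁ V.1
    have : Finite (U : Scheme.{u}) := inferInstanceAs (Finite (U : Set S))
    have : QuasiCompact (U.ι ≫ h ≫ q) :=
      (quasiCompact_iff_compactSpace _).2 Finite.compactSpace
    have : LocallyQuasiFinite (U.ι ≫ h ≫ q) := inferInstance
    have : IsFinite (U.ι ≫ h ≫ q) := .of_locallyQuasiFinite _
    have hU : FiniteOfDegLE (CommRingCat.of K) ((h ∣_ V.1) ≫ V.1.ι ≫ q)
        ((U.ι ≫ h ≫ q).finrank default) := by
      rw [← Category.assoc, morphismRestrict_ι, Category.assoc]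
      exact (finiteOfDegLE_iff _ _).2 ⟨inferInstance,
        fun v => (congrArg (U.ι ≫ h ≫ q).finrank (Subsingleton.elim v default)).le⟩
    have : Surjective (h ∣_ V.1) := IsZariskiLocalAtTarget.restrict ‹Surjective h› V.1
    have : IsFinite (V.1.ι ≫ q) := ((finiteOfDegLE_iff _ _).1
      (finiteOfDegLE_of_flat_surjective_of_isAffine (h ∣_ V.1) _ hU)).1
    infer_instance
  have : LocallyQuasiFinite q :=
    IsZariskiLocalAtSource.of_iSup_eq_top _ (iSup_affineOpens_eq_top T) hqf
  have : QuasiCompact q := (quasiCompact_iff_compactSpace _).2 Finite.compactSpace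
  have : IsFinite q := .of_locallyQuasiFinite q
  have : IsAffine T := isAffine_of_isAffineHom q
  exact finiteOfDegLE_of_flat_surjective_of_isAffine h q hS

theorem fibreDegLE_of_flat_surjective_triangle (f : X ⟶ Y) (g : Y ⟶ Z) [Flat f] [Surjective f]
    (n : ℕ) (hg : FibreDegLE (f ≫ g) n) : FibreDegLE g n := by
  rw [fibreDegLE_iff]
  intro k _ z
  let h : pullback (f ≫ g) z ⟶ pullback g z :=
    pullback.lift (pullback.fst _ _ ≫ f) (pullback.snd _ _) (by simp [pullback.condition])
  have sq : IsPullback (pullback.fst (f ≫ g) z) h f (pullback.fst g z) := by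
    refine IsPullback.of_bot (h₃₁ := z) (v₂₂ := g) (v₂₁ := pullback.snd g z) ?_ ?_
      (IsPullback.of_hasPullback g z)
    · have e : h ≫ pullback.snd g z = pullback.snd (f ≫ g) z := pullback.lift_snd _ _ _
      rw [e]; exact IsPullback.of_hasPullback (f ≫ g) z
    · exact (pullback.lift_fst _ _ _).symm
  have : Flat h := MorphismProperty.of_isPullback sq ‹_›
  have : Surjective h := MorphismProperty.of_isPullback sq ‹_›
  have e : h ≫ pullback.snd g z = pullback.snd (f ≫ g) z := pullback.lift_snd _ _ _
  refine finiteOfDegLE_of_flat_surjective h (pullback.snd g z) ?_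
  rw [e]
  exact (fibreDegLE_iff _ n).1 hg k z

end BddFibLib
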